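import Cfsg.Agent.Lib.Geometric.LinearStab
import Cfsg.Agent.Lib.Geometric.LinearSubfield
import Cfsg.Agent.Lib.Geometric.SLThree.Monomial
import Cfsg.Agent.Lib.Geometric.SLThree.Quad
import Cfsg.Agent.Lib.Geometric.SLThree.Unitary

/-!
The geometric maximal subgroups of the three-dimensional special linear group given by subspaces,
decompositions, subfields and forms.
-/
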